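import Groth.Agent.AbSch.K198.PicBig
import Groth.Agent.GrpSch.K269.NormFin
import Groth.Agent.S2654
import Groth.Prelude.Def_EGA4b
import Groth.Prelude.Def_Pi1
import Mathlib.RingTheory.RegularLocalRing.Defs

/-!
# The normalization of an excellent integral scheme in a finite extension, and its regular locus
-/

set_option autoImplicit false
universe u
open CategoryTheory CategoryTheory.Limits AlgebraicGeometry TopologicalSpace Opposite

namespace K198.CovStep

theorem isRegularLocalRing_iff {X : Scheme.{u}} {U : X.Opens} (hU : IsAffineOpen U) (x : X) (hx : x ∈ U) :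
    IsRegularLocalRing (Localization.AtPrime (hU.primeIdealOf ⟨x, hx⟩).asIdeal) ↔
      IsRegularLocalRing (X.presheaf.stalk x) := by
  let _ : Algebra Γ(X, U) (X.presheaf.stalk x) := TopCat.Presheaf.algebra_section_stalk X.presheaf ⟨x, hx⟩
  have hloc : IsLocalization.AtPrime (X.presheaf.stalk x) (hU.primeIdealOf ⟨x, hx⟩).asIdeal :=
    hU.isLocalization_stalk ⟨x, hx⟩
  let e := (IsLocalization.algEquiv (hU.primeIdealOf ⟨x, hx⟩).asIdeal.primeCompl
    (X.presheaf.stalk x) (Localization.AtPrime (hU.primeIdealOf ⟨x, hx⟩).asIdeal)).toRingEquiv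
  exact ⟨fun h => IsRegularLocalRing.of_ringEquiv e.symm, fun h => IsRegularLocalRing.of_ringEquiv e⟩

/-- The regular locus is open, if it is so in the members of an affine open cover. -/
theorem isOpen_regular {X : Scheme.{u}} (h : ∀ x : X, ∃ U : X.Opens, IsAffineOpen U ∧ x ∈ U ∧
    IsOpen (EGA4.regLocus Γ(X, U))) : IsOpen {x : X | IsRegularLocalRing (X.presheaf.stalk x)} := by
  rw [isOpen_iff_forall_mem_open]
  intro x hx
  obtain ⟨U, hU, hxU, ho⟩ := h x
  refine ⟨hU.fromSpec '' (EGA4.regLocus Γ(X, U)), ?_, hU.fromSpec.isOpenEmbedding.isOpenMap _ ho,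
    hU.primeIdealOf ⟨x, hxU⟩, ?_, hU.fromSpec_primeIdealOf ⟨x, hxU⟩⟩
  · rintro _ ⟨q, hq, rfl⟩
    have hqU : hU.fromSpec q ∈ U := by
      have := Set.mem_range_self (f := hU.fromSpec) q
      rwa [hU.range_fromSpec] at this
    refine (isRegularLocalRing_iff hU _ hqU).1 ?_
    have h1 : hU.primeIdealOf ⟨hU.fromSpec q, hqU⟩ = q :=
      hU.fromSpec.isOpenEmbedding.injective (hU.fromSpec_primeIdealOf ⟨_, hqU⟩)
    rw [h1]
    exact hq
  · exact (isRegularLocalRing_iff hU x hxU).2 hx

/-- A point of an integral scheme which is the image of a field-valued point inducing a bijection on the stalk. -/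
theorem exists_equiv {X : Scheme.{u}} {L : Type u} [Field L] (a : Spec (CommRingCat.of L) ⟶ X) (x : X)
    (hx : a (IsLocalRing.closedPoint L) = x) (hb : Function.Bijective (Scheme.stalkClosedPointTo a).hom) :
    ∃ e : X.presheaf.stalk x ≃+* L, a = Spec.map (CommRingCat.ofHom e.toRingHom) ≫ X.fromSpecStalk x := by
  subst hx
  refine ⟨RingEquiv.ofBijective (Scheme.stalkClosedPointTo a).hom hb, ?_⟩
  exact (Scheme.Spec_stalkClosedPointTo_fromSpecStalk a).symm

/-- The cover step. -/
theorem exists_cover {S : Scheme.{u}} [IsIntegral S] [IsNoetherian S]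
    (hE : ∀ U : S.affineOpens, EGA4.IsExcellent Γ(S, U.1)) {K : Type u} [Field K]
    (e : S.functionField ≃+* K) (K' : Type u) [Field K'] [Algebra K K'] [Module.Finite K K'] :
    ∃ (S' : Scheme.{u}) (π : S' ⟶ S) (_ : IsIntegral S') (_ : IsNoetherian S') (e' : S'.functionField ≃+* K')
      (V : S'.Opens), IsFinite π ∧ Surjective π ∧ Pi1.IsNormalScheme S' ∧
        (Spec.map (CommRingCat.ofHom e'.toRingHom) ≫ S'.fromSpecStalk (genericPoint S')) ≫ π =
          Spec.map (CommRingCat.ofHom (algebraMap K K')) ≫ Spec.map (CommRingCat.ofHom e.toRingHom) ≫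
            S.fromSpecStalk (genericPoint S) ∧
        (∀ x : S', ringKrullDim (S'.presheaf.stalk x) ≤ 1 → x ∈ V) ∧
        ∀ x : S', x ∈ V ↔ IsRegularLocalRing (S'.presheaf.stalk x) := by
  let _ : Algebra S.functionField K' := ((algebraMap K K').comp e.toRingHom).toAlgebra
  have : FiniteDimensional S.functionField K' := by
    have h1 : ((algebraMap K K').comp e.toRingHom).Finite :=
      (RingHom.finite_algebraMap.mpr inferInstance).comp (RingHom.Finite.of_surjective _ e.surjective)
    exact h1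
  obtain ⟨S', π, i1, a, i2, i3, hn, ha, hx, hb⟩ := K269.NormFin.exists_norm (X := S)
    (fun U => Groth.Agent.S2654.result _ ⟨(hE U).1, (hE U).2.2.1, (hE U).2.2.2⟩) K'
  obtain ⟨e', he'⟩ := exists_equiv a _ hx hb
  have i4 : IsNoetherian S' := by
    have : IsLocallyNoetherian S' := LocallyOfFiniteType.isLocallyNoetherian π
    have : CompactSpace S' := QuasiCompact.compactSpace_of_compactSpace π
    exact ⟨⟩
  have hopen : IsOpen {x : S' | IsRegularLocalRing (S'.presheaf.stalk x)} := by
    refine isOpen_regular fun x => ?_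
    obtain ⟨U, hU, hxU, -⟩ := exists_isAffineOpen_mem_and_subset (X := S) (x := π x) (U := ⊤) trivial
    refine ⟨π ⁻¹ᵁ U, hU.preimage π, hxU, ?_⟩
    have h1 : (π.app U).hom.Finite := IsFinite.finite_app π U hU
    let _ : Algebra Γ(S, U) Γ(S', π ⁻¹ᵁ U) := (π.app U).hom.toAlgebra
    have h2 : Module.Finite Γ(S, U) Γ(S', π ⁻¹ᵁ U) := h1
    exact (hE ⟨U, hU⟩).2.2.2 _ inferInstance
  refine ⟨S', π, i1, i4, e', ⟨_, hopen⟩, i2, i3, hn, ?_, ?_, fun x => Iff.rfl⟩
  · rw [← he', ha, ← Category.assoc, ← Spec.map_comp]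
    rfl
  · intro x hx
    have h0 := (hn x).1
    have h1 := (hn x).2
    have := Groth.Agent.Divis.ReflexAlg.isPrincipalIdealRing_of_isIntegrallyClosed hx
    change IsRegularLocalRing (S'.presheaf.stalk x)
    infer_instance

end K198.CovStep
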