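import Groth.Agent.Grpsch.PicGrp
import Groth.Agent.Curves.K317.NormPic
import Groth.Agent.Ega1.GenPts
import Groth.Prelude.Def_Pi1
import Mathlib.AlgebraicGeometry.Noetherian

/-!
# Torsion classes and connected components of a normal Noetherian scheme
-/

set_option autoImplicit false
universe u
open CategoryTheory CategoryTheory.Limits AlgebraicGeometry TopologicalSpace Opposite

namespace K198.PicComp

open Groth.Agent.Grpsch.PicGrp Groth.Agent.Fdesc.LocGen

variable {X : Scheme.{u}}

theorem exists_isGen_of_pull {M : X.Modules} (hM : PicF.IsInvertible M) (U : X.Opens)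
    (h : pull U.ι (mk M hM) = 1) : ∃ s : Γ(M, U), IsGen s := by
  rw [pull_mk, mk_eq_one_iff] at h
  obtain ⟨e⟩ := h
  obtain ⟨t, ht⟩ := (K317.NormPic.nonempty_iso_iff (M.restrict U.ι)).1
    ⟨(Scheme.Modules.restrictFunctorIsoPullback U.ι).app M ≪≫ e⟩
  obtain ⟨m, hm⟩ := (toRestrict (M := M) U.ι (U := ⊤)).surjective t
  rw [← hm, isGen_toRestrict_iff] at ht
  have hU : U.ι ''ᵁ ⊤ = U := by simp
  exact ⟨res M hU.ge m, ht.res hU.ge⟩

theorem eq_of_bot (M : X.Modules) {U : X.Opens} (hU : U = ⊥) (a b : Γ(M, U)) : a = b := by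
  subst hU
  exact res_ext M (fun i : PEmpty.{1} => i.elim) (fun i => i.elim) bot_le fun i => i.elim

/-- Classes on a disjoint union. -/
theorem eq_one_of_disjoint {ι : Type*} (U : ι → X.Opens) (hcov : ⊤ ≤ ⨆ i, U i)
    (hd : ∀ i j, i ≠ j → U i ⊓ U j = ⊥) (c : Pic X) (h : ∀ i, pull (U i).ι c = 1) : c = 1 := by
  induction c using ind with | _ M hM => ?_
  rw [mk_eq_one_iff, K317.NormPic.nonempty_iso_iff]
  choose s hs using fun i => exists_isGen_of_pull hM (U i) (h i)
  obtain ⟨t, ht⟩ := res_glue M U (fun i => le_top) hcov s fun i j => by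
    by_cases hij : i = j
    · subst hij
      rfl
    · exact eq_of_bot M (hd i j hij) _ _
  exact ⟨t, IsGen.of_cover U (fun i => le_top) hcov fun i => by rw [ht i]; exact hs i⟩

theorem isOpen_cc {α : Type*} [TopologicalSpace α] [TopologicalSpace.NoetherianSpace α]
    (x : α) : IsOpen (connectedComponent x) := by
  have h := TopologicalSpace.NoetherianSpace.finite_irreducibleComponents (α := α)
  have : (connectedComponent x)ᶜ =
      ⋃ Z ∈ {Z ∈ irreducibleComponents α | Z ⊆ (connectedComponent x)ᶜ}, Z := by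
    apply Set.Subset.antisymm
    · intro y hy
      simp only [Set.mem_iUnion]
      refine ⟨irreducibleComponent y, ⟨irreducibleComponent_mem_irreducibleComponents y, ?_⟩,
        mem_irreducibleComponent⟩
      intro z hz hzx
      apply hy
      have h1 : connectedComponent x = connectedComponent z := connectedComponent_eq hzx
      rw [h1]
      exact (isIrreducible_irreducibleComponent.isPreirreducible.isPreconnected).subset_connectedComponent
        hz mem_irreducibleComponent
    · exact Set.iUnion₂_subset fun Z hZ ↦ hZ.2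
  rw [← isClosed_compl_iff, this]
  exact (h.subset (Set.sep_subset _ _)).isClosed_biUnion
    fun Z hZ ↦ isClosed_of_mem_irreducibleComponents Z hZ.1

/-- The stalks of an open subscheme. -/
theorem isNormalScheme_opens (hX : Pi1.IsNormalScheme X) (U : X.Opens) :
    Pi1.IsNormalScheme (U : Scheme.{u}) := by
  intro x
  let e := (asIso (U.ι.stalkMap x)).commRingCatIsoToRingEquiv
  have h1 := (hX (U.ι x)).1
  have h2 := (hX (U.ι x)).2
  exact ⟨e.symm.toMulEquiv.isDomain _, IsIntegrallyClosed.of_equiv e⟩

/-- Reduction to integral open subschemes. -/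
theorem exists_pow_eq_one [IsNoetherian X] (hX : Pi1.IsNormalScheme X) (c : Pic X)
    (h : ∀ U : X.Opens, IsIntegral (U : Scheme.{u}) → ∃ m : ℕ, 1 ≤ m ∧ pull U.ι c ^ m = 1) :
    ∃ m : ℕ, 1 ≤ m ∧ c ^ m = 1 := by
  let W : X → X.Opens := fun x => ⟨connectedComponent x, isOpen_cc x⟩
  have hint : ∀ x, IsIntegral (W x : Scheme.{u}) := by
    intro x
    rw [Groth.Agent.Ega1.GenPts.isIntegral_iff]
    refine ⟨?_, fun y => (isNormalScheme_opens hX (W x) y).1⟩
    exact Subtype.connectedSpace isConnected_connectedComponent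
  choose m hm hm1 using fun x => h (W x) (hint x)
  obtain ⟨t, ht⟩ := isCompact_univ.elim_finite_subcover (fun x => (W x : Set X)) (fun x => (W x).2)
    (fun x _ => Set.mem_iUnion.2 ⟨x, mem_connectedComponent⟩)
  refine ⟨∏ x ∈ t, m x, Nat.pos_of_ne_zero (Finset.prod_ne_zero_iff.2 fun x _ => by have := hm x; omega), ?_⟩
  let V : ConnectedComponents X → X.Opens := fun z => W (Quotient.out z)
  have hVx : ∀ x : X, V (x : ConnectedComponents X) = W x := by
    intro x
    ext y
    change y ∈ connectedComponent _ ↔ y ∈ connectedComponent x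
    rw [ConnectedComponents.coe_eq_coe.1 (show ((Quotient.out (x : ConnectedComponents X) : X) : ConnectedComponents X) = x
      from Quotient.out_eq _)]
  refine eq_one_of_disjoint V ?_ ?_ _ ?_
  · intro x _
    refine Opens.mem_iSup.2 ⟨(x : ConnectedComponents X), ?_⟩
    rw [hVx]
    exact mem_connectedComponent
  · intro z z' hzz
    obtain ⟨x, rfl⟩ := ConnectedComponents.surjective_coe z
    obtain ⟨x', rfl⟩ := ConnectedComponents.surjective_coe z'
    rw [hVx, hVx, eq_bot_iff]
    rintro y ⟨hy, hy'⟩
    refine hzz ?_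
    rw [ConnectedComponents.coe_eq_coe]
    exact (connectedComponent_eq hy).trans (connectedComponent_eq hy').symm
  · intro z
    obtain ⟨x, rfl⟩ := ConnectedComponents.surjective_coe z
    rw [hVx]
    obtain ⟨y, hy, hxy⟩ := Set.mem_iUnion₂.1 (ht (Set.mem_univ x))
    have hW : W x = W y := by
      ext w
      change w ∈ connectedComponent x ↔ w ∈ connectedComponent y
      rw [connectedComponent_eq hxy]
    rw [hW, map_pow]
    obtain ⟨k, hk⟩ := Finset.dvd_prod_of_mem m hy
    rw [hk, pow_mul, hm1, one_pow]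

end K198.PicComp
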